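import Groth.Agent.GeomRedSpread.NearPoint
import Groth.Agent.ConsEngine.Points
import Groth.Prelude.Def_EGA4Misc

/-!
# The locus of geometrically reduced fibres is constructible
-/

set_option autoImplicit false
set_option linter.style.haveILetI false

universe u

open CategoryTheory AlgebraicGeometry Limits TopologicalSpace

namespace Groth.Agent.GeomRedSpread

variable {X Y : Scheme.{u}}

theorem geometricallyReduced_iff_forall_fiber (f : X ⟶ Y) :
    GeometricallyReduced f ↔ ∀ y, GeometricallyReduced (f.fiberToSpecResidueField y) := by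
  simp only [geometricallyReduced_iff]
  exact geometrically_iff_forall_fiberToSpecResidueField

theorem fiber_baseChange_iff {X' Y' : Scheme.{u}} {f : X ⟶ Y} {f' : X' ⟶ Y'} {g' : X' ⟶ X} {g : Y' ⟶ Y}
    (hc : IsPullback g' f' f g) (y' : Y') :
    GeometricallyReduced (f'.fiberToSpecResidueField y') ↔ GeometricallyReduced (f.fiberToSpecResidueField (g y')) :=
  Set.ext_iff.mp (S9735.result f g f' g' hc) y'

theorem isLocallyConstructible_of_qs (f : X ⟶ Y) [LocallyOfFinitePresentation f] [QuasiCompact f] [QuasiSeparated f] :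
    Topology.IsLocallyConstructible {y : Y | GeometricallyReduced (f.fiberToSpecResidueField y)} := by
  have hP : ConsProp.IsCons.{u} (fun Z T g => ∀ t : T, GeometricallyReduced (g.fiberToSpecResidueField t)) := by
    refine ⟨?_, fun Z S u _ _ _ _ ↦ ?_⟩
    · intro Z Z' T T' g g' e h _ _ _ _ _ _ hsq
      refine ⟨fun hg t' ↦ (fiber_baseChange_iff hsq t').mpr (hg _), fun hg t ↦ ?_⟩
      obtain ⟨t'⟩ : Nonempty T' := inferInstance
      rw [Subsingleton.elim t (h t'), ← fiber_baseChange_iff hsq t']
      exact hg t'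
    · have hloc : ConsProp.locus (fun Z T g => ∀ t : T, GeometricallyReduced (g.fiberToSpecResidueField t)) u =
          {s | GeometricallyReduced (u.fiberToSpecResidueField s)} := by
        ext s
        exact (geometricallyReduced_iff_forall_fiber _).symm
      rw [hloc]
      obtain ⟨O, hO, h⟩ := exists_open_geometricallyReduced_iff u (genericPoint S)
      by_cases hn : GeometricallyReduced (u.fiberToSpecResidueField (genericPoint S))
      · exact .inl ⟨_, mem_interior.mpr ⟨O, fun s hs ↦ (h s hs (genericPoint_specializes s)).mpr hn, O.2, hO⟩⟩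
      · exact .inr ⟨_, mem_interior.mpr ⟨O, fun s hs e ↦ hn ((h s hs (genericPoint_specializes s)).mp e), O.2, hO⟩⟩
  convert ConsEngine.isLocallyConstructible_locus hP f using 1
  ext s
  exact geometricallyReduced_iff_forall_fiber _

/-- The fibre is geometrically reduced exactly when those of the members of an open cover of the source are. -/
theorem geometricallyReduced_fiber_iff_cover (f : X ⟶ Y) (y : Y) {ι : Type u} (W : ι → X.Opens) (hW : ⨆ i, W i = ⊤) :
    GeometricallyReduced (f.fiberToSpecResidueField y) ↔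
      ∀ i, GeometricallyReduced (((W i).ι ≫ f).fiberToSpecResidueField y) := by
  simp only [geometricallyReduced_fiber_iff]
  let P := pullback f (geoPt y)
  have e : ∀ i, pullback ((W i).ι ≫ f) (geoPt y) ≅ ((pullback.fst f (geoPt y)) ⁻¹ᵁ W i).toScheme := fun i ↦
    ((isPullback_morphismRestrict (pullback.fst f (geoPt y)) (W i)).flip.paste_horiz (IsPullback.of_hasPullback f (geoPt y)).flip).flip.isoPullback.symm
  constructor
  · intro h i
    have : AlgebraicGeometry.IsReduced ((pullback.fst f (geoPt y)) ⁻¹ᵁ W i).toScheme :=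
      isReduced_of_isOpenImmersion ((pullback.fst f (geoPt y)) ⁻¹ᵁ W i).ι
    exact isReduced_of_isOpenImmersion (e i).hom
  · intro h
    have : ∀ x : ↥P, _root_.IsReduced (P.presheaf.stalk x) := by
      intro x
      obtain ⟨i, hi⟩ := Opens.mem_iSup.mp (show pullback.fst f (geoPt y) x ∈ ⨆ i, W i by rw [hW]; trivial)
      let V := (pullback.fst f (geoPt y)) ⁻¹ᵁ W i
      have := h i
      have : AlgebraicGeometry.IsReduced V.toScheme := isReduced_of_isOpenImmersion (e i).inv
      exact isReduced_of_injective (V.stalkIso ⟨x, hi⟩).symm.commRingCatIsoToRingEquiv.toRingHom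
        (V.stalkIso ⟨x, hi⟩).symm.commRingCatIsoToRingEquiv.injective
    exact isReduced_of_isReduced_stalk _

theorem isLocallyConstructible (f : X ⟶ Y) [LocallyOfFinitePresentation f] [QuasiCompact f] :
    Topology.IsLocallyConstructible {y : Y | GeometricallyReduced (f.fiberToSpecResidueField y)} := by
  classical
  refine Topology.IsLocallyConstructible.of_isOpenCover (U := fun V : Y.affineOpens ↦ (V : Y.Opens))
    (iSup_affineOpens_eq_top Y) fun V ↦ ?_
  let g := f ∣_ (V : Y.Opens)
  have : IsAffine (V : Y.Opens).toScheme := V.2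
  have : CompactSpace (f ⁻¹ᵁ (V : Y.Opens)).toScheme := QuasiCompact.compactSpace_of_compactSpace g
  let X' := (f ⁻¹ᵁ (V : Y.Opens)).toScheme
  obtain ⟨t, ht⟩ := isCompact_univ.elim_finite_subcover (fun W : X'.affineOpens ↦ ((W : X'.Opens) : Set X'))
    (fun W ↦ (W : X'.Opens).2) (fun x _ ↦ by
      obtain ⟨_, ⟨W, hW, rfl⟩, hxW, -⟩ := X'.isBasis_affineOpens.exists_subset_of_mem_open
        (Set.mem_univ x) isOpen_univ
      exact Set.mem_iUnion.mpr ⟨⟨W, hW⟩, hxW⟩)
  have hcov : ⨆ W : {W // W ∈ t}, (W.1 : X'.Opens) = ⊤ := by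
    refine top_le_iff.mp fun x _ ↦ ?_
    obtain ⟨W, hW, hxW⟩ := Set.mem_iUnion₂.mp (ht (Set.mem_univ x))
    exact Opens.mem_iSup.mpr ⟨⟨W, hW⟩, hxW⟩
  have heq : (Subtype.val ⁻¹' {y : Y | GeometricallyReduced (f.fiberToSpecResidueField y)} : Set (V : Y.Opens)) =
      ⋂ W : {W // W ∈ t}, {v | GeometricallyReduced (((W.1 : X'.Opens).ι ≫ g).fiberToSpecResidueField v)} := by
    ext v
    rw [Set.mem_iInter]
    exact (fiber_baseChange_iff (isPullback_morphismRestrict f (V : Y.Opens)).flip v).symm.trans
      (geometricallyReduced_fiber_iff_cover g v _ hcov)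
  refine (congrArg Topology.IsLocallyConstructible heq).mpr (Topology.IsLocallyConstructible.iInter fun W ↦ ?_)
  have : IsAffine (W.1 : X'.Opens).toScheme := W.1.2
  exact isLocallyConstructible_of_qs _

end Groth.Agent.GeomRedSpread
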