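import Mathlib
import Groth.Agent.S2451
import Groth.Agent.SmoothRed.Basic

/-!
# Spreading reducedness and non-reducedness of fibres: the algebra
-/

set_option autoImplicit false
set_option linter.style.haveILetI false
set_option linter.unusedSectionVars false

universe u

open TensorProduct

namespace Groth.Agent.GeomRedSpread

/-- Localizations of geometrically reduced algebras over a field are geometrically reduced. -/
theorem isGeometricallyReduced_of_isLocalization (K S : Type u) [Field K] [CommRing S] [Algebra K S]
    [Algebra.IsGeometricallyReduced K S] (M : Submonoid S) (L : Type u) [CommRing L] [Algebra S L] [Algebra K L]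
    [IsScalarTower K S L] [IsLocalization M L] : Algebra.IsGeometricallyReduced K L := by
  rw [Algebra.isGeometricallyReduced_field_iff]
  have hS := (Algebra.isGeometricallyReduced_field_iff K S).mp ‹_›
  let Ω := AlgebraicClosure K
  letI : Algebra (Ω ⊗[K] S) (Ω ⊗[K] L) :=
    (Algebra.TensorProduct.map (AlgHom.id K Ω) (IsScalarTower.toAlgHom K S L)).toAlgebra
  haveI : IsScalarTower Ω (Ω ⊗[K] S) (Ω ⊗[K] L) :=
    .of_algebraMap_eq <| by intro x; simp [RingHom.algebraMap_toAlgebra]
  haveI := IsLocalization.tensorProduct_tensorProduct_right K Ω M L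
    (by ext; simp [RingHom.algebraMap_toAlgebra])
  exact isReduced_localizationPreserves (M.map (Algebra.TensorProduct.includeRight (R := K) (A := Ω))) _ hS

/-- A geometrically reduced algebra of finite type over a field is smooth off a nonzerodivisor. -/
theorem exists_nonZeroDivisor_smooth (K S : Type u) [Field K] [CommRing S] [Algebra K S]
    [Algebra.FiniteType K S] [Algebra.IsGeometricallyReduced K S] :
    ∃ g : S, g ∈ nonZeroDivisors S ∧ ∀ q : PrimeSpectrum S, g ∉ q.asIdeal → Algebra.IsSmoothAt K q.asIdeal := by
  classical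
  have : IsReduced S := Algebra.isReduced_of_isGeometricallyReduced (k := K)
  have : IsNoetherianRing S := Algebra.FiniteType.isNoetherianRing K S
  have : Algebra.FinitePresentation K S := Algebra.FinitePresentation.of_finiteType.mp inferInstance
  have hsm : ∀ p ∈ minimalPrimes S, ∀ h : p.IsPrime, (⟨p, h⟩ : PrimeSpectrum S) ∈ Algebra.smoothLocus K S := by
    intro p hp hprime
    let L := Localization.AtPrime p
    have hL : IsField L := by
      have : Ring.KrullDimLE 0 L := by
        rw [Ring.krullDimLE_iff, Nat.cast_zero]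
        exact (IsLocalization.AtPrime.ringKrullDim_eq_height p L).trans_le (by
          rw [Ideal.height_eq_zero_iff.mpr hp]; rfl)
      exact Ring.KrullDimLE.isField_of_isReduced
    let _ : Field L := hL.toField
    have : Algebra.IsGeometricallyReduced K L := isGeometricallyReduced_of_isLocalization K S p.primeCompl L
    exact (S2451.result (k := K) (K := L)).mpr inferInstance
  obtain ⟨J, hJ⟩ := (PrimeSpectrum.isClosed_iff_zeroLocus_ideal _).mp
    (Algebra.isOpen_smoothLocus (R := K) (A := S)).isClosed_compl
  obtain ⟨g, hgJ, hg⟩ : ∃ g ∈ J, ∀ p ∈ minimalPrimes S, g ∉ p := by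
    by_contra hne
    push Not at hne
    have hsub : (J : Set S) ⊆ ⋃ p ∈ ((minimalPrimes.finite_of_isNoetherianRing S).toFinset : Set (Ideal S)), (p : Set S) := by
      intro x hx
      obtain ⟨p, hp, hxp⟩ := hne x hx
      exact Set.mem_biUnion (by simpa using hp) hxp
    obtain ⟨p, hp, hle⟩ := (Ideal.subset_union_prime ⊥ ⊥ (fun p hp _ _ ↦
      ((minimalPrimes.finite_of_isNoetherianRing S).mem_toFinset.mp hp).1.1)).mp hsub
    have hp' := (minimalPrimes.finite_of_isNoetherianRing S).mem_toFinset.mp hp
    have h1 : (⟨p, hp'.1.1⟩ : PrimeSpectrum S) ∈ (Algebra.smoothLocus K S)ᶜ := by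
      rw [hJ]
      exact fun x hx ↦ hle hx
    exact h1 (hsm p hp' hp'.1.1)
  refine ⟨g, ?_, fun q hq ↦ by_contra fun hns ↦ hq ?_⟩
  · refine mem_nonZeroDivisors_iff_right.mpr fun x hx ↦ ?_
    refine IsReduced.eq_zero x ?_
    rw [← mem_nilradical, nilradical_eq_sInf, Ideal.mem_sInf]
    intro q hq
    have : q.IsPrime := hq
    obtain ⟨p, hp, hpq⟩ := Ideal.exists_minimalPrimes_le (I := ⊥) (J := q) bot_le
    exact hpq ((hp.1.1.mem_or_mem (hx.symm ▸ p.zero_mem : x * g ∈ p)).resolve_right (hg p hp))
  · have h1 : q ∈ PrimeSpectrum.zeroLocus (J : Set S) := hJ.le hns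
    exact h1 hgJ

end Groth.Agent.GeomRedSpread
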