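import Groth.Agent.GeomRedSpread.Domain
import Groth.Agent.GeomFib.RingSpread
import Groth.Agent.GeomRedPull.Field
import Groth.Agent.FSField.Basic

/-!
# Spreading reducedness and non-reducedness of fibres of an algebra of finite type
-/

set_option autoImplicit false
set_option linter.style.haveILetI false
set_option linter.unusedSectionVars false

universe u

open TensorProduct

namespace Groth.Agent.GeomRedSpread

attribute [local instance] Algebra.TensorProduct.rightAlgebra

variable {A : Type u} [CommRing A] [IsDomain A]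

/-- Geometric reducedness of the generic fibre spreads to the fields where some nonzero scalar is invertible. -/
theorem exists_forall_isReduced (B : Type u) [CommRing B] [Algebra A B] [Algebra.FiniteType A B]
    [Algebra.IsGeometricallyReduced (FractionRing A) (FractionRing A ⊗[A] B)] :
    ∃ a : A, a ≠ 0 ∧ ∀ (k : Type u) [Field k] [Algebra A k], algebraMap A k a ≠ 0 → IsReduced (k ⊗[A] B) := by
  let K := FractionRing A
  let R₀ := K ⊗[A] B
  obtain ⟨g, hg, hsm⟩ := exists_nonZeroDivisor_smooth K R₀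
  have : IsLocalization (Algebra.algebraMapSubmonoid B (nonZeroDivisors A)) R₀ := IsLocalization.tensorRight K (nonZeroDivisors A)
  obtain ⟨⟨b, ⟨_, s, hs, rfl⟩⟩, hgb⟩ := IsLocalization.surj (Algebra.algebraMapSubmonoid B (nonZeroDivisors A)) g
  have hu : IsUnit (algebraMap B R₀ (algebraMap A B s)) :=
    IsLocalization.map_units R₀ (⟨_, s, hs, rfl⟩ : Algebra.algebraMapSubmonoid B (nonZeroDivisors A))
  change g * algebraMap B R₀ (algebraMap A B s) = algebraMap B R₀ b at hgb
  obtain ⟨f, hf, hfreeM, hfreeB, hfp, -⟩ := S0389.result (R := A) (S := B) (M := B ⧸ Ideal.span ({b} : Set B))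
  let R := Localization.Away f
  let T := R ⊗[A] B
  have : IsDomain R := IsLocalization.isDomain_localization (powers_le_nonZeroDivisors_of_noZeroDivisors hf)
  letI : Algebra R K := (IsLocalization.Away.lift (S := R) f (g := algebraMap A K)
    (IsUnit.mk0 _ fun h ↦ hf (IsFractionRing.injective A K (h.trans (map_zero _).symm)))).toAlgebra
  haveI : IsScalarTower A R K := .of_algebraMap_eq fun x ↦ (IsLocalization.Away.lift_eq f _ x).symm
  haveI : IsFractionRing R K := IsFractionRing.isFractionRing_of_isDomain_of_isLocalization (Submonoid.powers f) R K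
  -- the generic fibre of `T` is that of `B`
  let φ : T →ₐ[A] R₀ := Algebra.TensorProduct.map (IsScalarTower.toAlgHom A R K) (AlgHom.id A B)
  letI : Algebra T R₀ := φ.toRingHom.toAlgebra
  haveI : IsScalarTower B T R₀ := .of_algebraMap_eq fun x ↦ by
    show (1 : K) ⊗ₜ[A] x = algebraMap R K 1 ⊗ₜ[A] x
    rw [map_one]
  haveI : IsScalarTower R T R₀ := IsScalarTower.of_algebraMap_eq (R := R) (S := T) (A := R₀) fun x ↦ rfl
  haveI : IsLocalization (Algebra.algebraMapSubmonoid T (nonZeroDivisors R)) R₀ := by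
    haveI : IsLocalization (Algebra.algebraMapSubmonoid T (nonZeroDivisors R)) (K ⊗[R] T) :=
      IsLocalization.tensorRight K (nonZeroDivisors R)
    let e := Algebra.TensorProduct.cancelBaseChange A R K K B
    refine IsLocalization.isLocalization_of_algEquiv _ (S := K ⊗[R] T) (AlgEquiv.ofRingEquiv (f := e.toRingEquiv) fun t ↦ ?_)
    show e ((1 : K) ⊗ₜ[R] t) = φ t
    induction t using TensorProduct.induction_on with
    | zero => rw [TensorProduct.tmul_zero, map_zero, map_zero]
    | tmul r x =>
      rw [Algebra.TensorProduct.cancelBaseChange_tmul]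
      show _ = algebraMap R K r ⊗ₜ[A] x
      rw [Algebra.algebraMap_eq_smul_one]
    | add x y hx hy => rw [TensorProduct.tmul_add, map_add, map_add, hx, hy]
  haveI : Module.Free R T := hfreeB
  haveI : Algebra.FinitePresentation R T := hfp
  let b' : T := (1 : R) ⊗ₜ[A] b
  haveI : Module.Projective R (T ⧸ Ideal.span ({b'} : Set T)) := by
    have := hfreeM
    let e := Algebra.TensorProduct.tensorQuotientEquiv (R := A) R B R (Ideal.span ({b} : Set B))
    exact Module.Projective.of_equiv (e.trans (Ideal.quotientEquivAlg _ (Ideal.span ({b'} : Set T)) AlgEquiv.refl (by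
      rw [Ideal.map_span, Set.image_singleton]; exact (Ideal.map_id _).symm))).toLinearEquiv
  have hb'g : algebraMap T R₀ b' = g * algebraMap B R₀ (algebraMap A B s) := by
    rw [hgb]
    show algebraMap R K 1 ⊗ₜ[A] b = (1 : K) ⊗ₜ[A] b
    rw [map_one]
  obtain ⟨a, ha, hk⟩ := exists_forall_isReduced_core (R := R) (T := T) (K := K) (S := R₀) b'
    (by rw [hb'g]; exact mul_mem hg hu.mem_nonZeroDivisors)
    (fun q hq ↦ hsm q fun h ↦ hq (by rw [hb'g]; exact Ideal.mul_mem_right _ _ h))
  obtain ⟨⟨x, ⟨_, n, rfl⟩⟩, hx⟩ := IsLocalization.surj (Submonoid.powers f) a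
  refine ⟨f * x, mul_ne_zero hf fun h ↦ ha ?_, fun k _ _ hfx ↦ ?_⟩
  · rw [h, map_zero] at hx
    exact (IsUnit.mul_left_eq_zero (IsLocalization.map_units R (⟨f ^ n, n, rfl⟩ : Submonoid.powers f))).mp hx
  rw [map_mul, mul_ne_zero_iff] at hfx
  letI : Algebra R k := (IsLocalization.Away.lift (S := R) f (g := algebraMap A k) (IsUnit.mk0 _ hfx.1)).toAlgebra
  haveI : IsScalarTower A R k := .of_algebraMap_eq fun x ↦ (IsLocalization.Away.lift_eq f _ x).symm
  have := hk k fun h ↦ hfx.2 (by
    rw [IsScalarTower.algebraMap_apply A R k, ← show a * algebraMap A R (f ^ n) = algebraMap A R x from hx, map_mul, h, zero_mul])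
  exact isReduced_of_injective (Algebra.TensorProduct.cancelBaseChange A R k k B).symm.toRingHom
    (Algebra.TensorProduct.cancelBaseChange A R k k B).symm.injective

/-- A non-reduced generic fibre spreads to the fields where some nonzero scalar is invertible. -/
theorem exists_forall_not_isReduced (B : Type u) [CommRing B] [Algebra A B] [Algebra.FiniteType A B]
    (h : ¬ IsReduced (FractionRing A ⊗[A] B)) :
    ∃ a : A, a ≠ 0 ∧ ∀ (k : Type u) [Field k] [Algebra A k], algebraMap A k a ≠ 0 → ¬ IsReduced (k ⊗[A] B) := by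
  let K := FractionRing A
  have : IsLocalization (Algebra.algebraMapSubmonoid B (nonZeroDivisors A)) (K ⊗[A] B) := IsLocalization.tensorRight K (nonZeroDivisors A)
  obtain ⟨z, hz, hz0⟩ : ∃ z : K ⊗[A] B, IsNilpotent z ∧ z ≠ 0 := by
    by_contra hne
    push Not at hne
    exact h ⟨hne⟩
  obtain ⟨⟨b, ⟨_, s, hs, rfl⟩⟩, hzb⟩ := IsLocalization.surj (Algebra.algebraMapSubmonoid B (nonZeroDivisors A)) z
  change z * algebraMap B (K ⊗[A] B) (algebraMap A B s) = algebraMap B (K ⊗[A] B) b at hzb
  have hu : IsUnit (algebraMap B (K ⊗[A] B) (algebraMap A B s)) :=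
    IsLocalization.map_units (K ⊗[A] B) (⟨_, s, hs, rfl⟩ : Algebra.algebraMapSubmonoid B (nonZeroDivisors A))
  obtain ⟨m, hm⟩ := hz
  obtain ⟨⟨_, c, hc, rfl⟩, hcb⟩ := (IsLocalization.map_eq_zero_iff (Algebra.algebraMapSubmonoid B (nonZeroDivisors A)) (K ⊗[A] B) (b ^ m)).mp
    (by rw [map_pow, ← hzb, mul_pow, hm, zero_mul])
  change algebraMap A B c * b ^ m = 0 at hcb
  obtain ⟨f, hf, -, hfree, -, -⟩ := S0389.result (R := A) (S := B) (M := B)
  let R := Localization.Away f
  have : Module.Free R (R ⊗[A] B) := hfree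
  let e := Module.Free.chooseBasis R (R ⊗[A] B)
  have hb0 : (1 : R) ⊗ₜ[A] b ≠ 0 := fun h0 ↦ hz0 (by
    let φ : R ⊗[A] B →ₐ[A] K ⊗[A] B := Algebra.TensorProduct.map
      (IsLocalization.liftAlgHom (M := Submonoid.powers f) (f := Algebra.ofId A K) (by
        rintro ⟨_, n, rfl⟩
        exact IsUnit.mk0 _ fun hn ↦ pow_ne_zero n hf (IsFractionRing.injective A K (hn.trans (map_zero _).symm))))
      (AlgHom.id A B)
    have h1 := congrArg φ h0
    simp only [φ, Algebra.TensorProduct.map_tmul, map_one, AlgHom.id_apply, map_zero] at h1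
    rw [show algebraMap B (K ⊗[A] B) b = (1 : K) ⊗ₜ[A] b from rfl, h1] at hzb
    exact (IsUnit.mul_left_eq_zero hu).mp hzb)
  obtain ⟨i, hi⟩ : ∃ i, e.repr ((1 : R) ⊗ₜ[A] b) i ≠ 0 := by
    by_contra hne
    push Not at hne
    exact hb0 (e.repr.map_eq_zero_iff.mp (Finsupp.ext hne))
  obtain ⟨⟨x, ⟨_, n, rfl⟩⟩, hx⟩ := IsLocalization.surj (Submonoid.powers f) (e.repr ((1 : R) ⊗ₜ[A] b) i)
  refine ⟨f * c * x, mul_ne_zero (mul_ne_zero hf (nonZeroDivisors.ne_zero hc)) fun h0 ↦ hi ?_, fun k _ _ hk hred ↦ ?_⟩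
  · rw [h0, map_zero] at hx
    exact (IsUnit.mul_left_eq_zero (IsLocalization.map_units R (⟨f ^ n, n, rfl⟩ : Submonoid.powers f))).mp hx
  rw [map_mul, map_mul, mul_ne_zero_iff, mul_ne_zero_iff] at hk
  letI : Algebra R k := (IsLocalization.Away.lift (S := R) f (g := algebraMap A k) (IsUnit.mk0 _ hk.1.1)).toAlgebra
  haveI : IsScalarTower A R k := .of_algebraMap_eq fun x ↦ (IsLocalization.Away.lift_eq f _ x).symm
  -- the image of `b` is nilpotent, hence zero
  have hnil : IsNilpotent ((1 : k) ⊗ₜ[A] b) := ⟨m, by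
    have h1 : (algebraMap A k c) ⊗ₜ[A] (b ^ m) = 0 := by
      rw [Algebra.algebraMap_eq_smul_one, TensorProduct.smul_tmul, Algebra.smul_def, hcb, TensorProduct.tmul_zero]
    rw [Algebra.TensorProduct.tmul_pow, one_pow]
    have h2 := congrArg (fun y ↦ ((algebraMap A k c)⁻¹ ⊗ₜ[A] (1 : B)) * y) h1
    simpa [Algebra.TensorProduct.tmul_mul_tmul, hk.1.2] using h2⟩
  have hzero := hred.eq_zero _ hnil
  -- but its coordinate is not
  have h3 := congrArg (Algebra.TensorProduct.cancelBaseChange A R k k B).symm hzero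
  simp only [map_zero, Algebra.TensorProduct.cancelBaseChange_symm_tmul] at h3
  have h4 := congrArg (fun y ↦ (e.baseChange k).repr y i) h3
  simp only [Module.Basis.baseChange_repr_tmul, map_zero, Finsupp.coe_zero, Pi.zero_apply, Algebra.smul_def, mul_one] at h4
  exact hk.2 (by
    rw [IsScalarTower.algebraMap_apply A R k, ← show _ * algebraMap A R (f ^ n) = algebraMap A R x from hx, map_mul, h4, zero_mul])

/-- A nilpotent over a field extension is defined over the fractions of a finitely generated subalgebra. -/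
theorem exists_fg_not_isReduced (B : Type u) [CommRing B] [Algebra A B] {Ω : Type u} [Field Ω] [Algebra A Ω]
    (h : ¬ IsReduced (Ω ⊗[A] B)) :
    ∃ C : Subalgebra A Ω, C.FG ∧ ¬ IsReduced (FractionRing C ⊗[A] B) := by
  obtain ⟨z, hz, hz0⟩ : ∃ z : Ω ⊗[A] B, IsNilpotent z ∧ z ≠ 0 := by
    by_contra hne
    push Not at hne
    exact h ⟨hne⟩
  obtain ⟨C, hCfg, hzC⟩ := exists_fg_and_mem_baseChange (Algebra.TensorProduct.comm A Ω B z)
  obtain ⟨z₀, hz₀⟩ := hzC
  refine ⟨C, hCfg, fun hred ↦ ?_⟩
  let zC : C ⊗[A] B := Algebra.TensorProduct.comm A B C z₀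
  let φL : FractionRing C →ₐ[C] Ω :=
    IsFractionRing.liftAlgHom (g := Algebra.ofId C Ω) Subtype.coe_injective
  letI : Algebra (FractionRing C) Ω := φL.toRingHom.toAlgebra
  haveI : IsScalarTower A (FractionRing C) Ω :=
    .of_algebraMap_eq fun x ↦ ((φL.restrictScalars A).commutes x).symm
  obtain ⟨r, hr⟩ := (Algebra.linearMap (FractionRing C) Ω).exists_leftInverse_of_injective
    (LinearMap.ker_eq_bot.mpr (algebraMap (FractionRing C) Ω).injective)
  let ψ : FractionRing C ⊗[A] B →ₐ[A] Ω ⊗[A] B := Algebra.TensorProduct.map (φL.restrictScalars A) (AlgHom.id A B)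
  let ι : C ⊗[A] B →ₐ[A] FractionRing C ⊗[A] B :=
    Algebra.TensorProduct.map (IsScalarTower.toAlgHom A C (FractionRing C)) (AlgHom.id A B)
  have hψι : ψ (ι zC) = z := by
    apply (Algebra.TensorProduct.comm A Ω B).injective
    rw [← hz₀]
    show Algebra.TensorProduct.comm A Ω B (ψ (ι (Algebra.TensorProduct.comm A B C z₀))) = _
    clear hz₀
    induction z₀ using TensorProduct.induction_on with
    | zero => simp
    | tmul p q =>
      simp only [ψ, ι, Algebra.TensorProduct.comm_tmul, Algebra.TensorProduct.map_tmul, AlgHom.id_apply]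
      show p ⊗ₜ[A] φL (algebraMap C (FractionRing C) q) = _
      rw [φL.commutes]
      rfl
    | add p q hp hq => simp only [map_add, hp, hq]
  have hinj : Function.Injective ψ := by
    intro x y hxy
    have h2 : ∀ w, (r.restrictScalars A).rTensor B (ψ w) = w := fun w ↦ by
      induction w using TensorProduct.induction_on with
      | zero => simp
      | tmul p q =>
        show r (algebraMap (FractionRing C) Ω p) ⊗ₜ[A] q = p ⊗ₜ[A] q
        rw [show r (algebraMap (FractionRing C) Ω p) = p from LinearMap.congr_fun hr p]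
      | add p q hp hq => rw [map_add, map_add, hp, hq]
    rw [← h2 x, ← h2 y, hxy]
  obtain ⟨m, hm⟩ := hz
  refine hz0 (hψι ▸ (map_eq_zero_iff ψ hinj).mpr (hred.eq_zero _ ⟨m, hinj ?_⟩))
  rw [map_pow, hψι, hm, map_zero]

/-- A nonzero element of a domain extending the base is nonzero at some point over each point of an open set. -/
theorem exists_forall_field_extension (C : Type u) [CommRing C] [IsDomain C] [Algebra A C] [Algebra.FiniteType A C]
    (hinj : Function.Injective (algebraMap A C)) (c : C) (hc : c ≠ 0) :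
    ∃ a : A, a ≠ 0 ∧ ∀ (k : Type u) [Field k] [Algebra A k], algebraMap A k a ≠ 0 →
      ∃ (k' : Type u) (_ : Field k') (_ : Algebra k k') (_ : Algebra C k') (_ : Algebra A k'),
        IsScalarTower A k k' ∧ IsScalarTower A C k' ∧ algebraMap C k' c ≠ 0 := by
  let C' := Localization.Away c
  have : Algebra.FiniteType A C' :=
    Algebra.FiniteType.trans (inferInstance : Algebra.FiniteType A C) (inferInstance : Algebra.FiniteType C C')
  have hle := powers_le_nonZeroDivisors_of_noZeroDivisors hc
  have : IsDomain C' := IsLocalization.isDomain_localization hle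
  obtain ⟨a, ha, -, hne⟩ := GeomFib.exists_flat_spread (A := A) (B := C')
  have hgen : ∃ p : Ideal C', p.IsPrime ∧ p.comap (algebraMap A C') = ⊥ := by
    refine ⟨⊥, Ideal.isPrime_bot, eq_bot_iff.mpr fun x hx ↦ ?_⟩
    rw [Ideal.mem_comap, Ideal.mem_bot, IsScalarTower.algebraMap_apply A C C'] at hx
    exact hinj ((IsLocalization.injective C' hle (hx.trans (map_zero _).symm)).trans (map_zero _).symm)
  refine ⟨a, ha, fun k _ _ hk ↦ ?_⟩
  have := hne k hk hgen
  obtain ⟨P, hP⟩ := Ideal.exists_maximal (C' ⊗[A] k)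
  let ιk : k →ₐ[A] (C' ⊗[A] k) ⧸ P := (Ideal.Quotient.mkₐ A P).comp Algebra.TensorProduct.includeRight
  let ιC : C →ₐ[A] (C' ⊗[A] k) ⧸ P :=
    ((Ideal.Quotient.mkₐ A P).comp (Algebra.TensorProduct.includeLeft (S := A))).comp (IsScalarTower.toAlgHom A C C')
  refine ⟨(C' ⊗[A] k) ⧸ P, Ideal.Quotient.field P, ιk.toRingHom.toAlgebra, ιC.toRingHom.toAlgebra, inferInstance,
    @IsScalarTower.of_algebraMap_eq A k ((C' ⊗[A] k) ⧸ P) _ _ _ _ ιk.toRingHom.toAlgebra _ fun x ↦ (ιk.commutes x).symm,
    @IsScalarTower.of_algebraMap_eq A C ((C' ⊗[A] k) ⧸ P) _ _ _ _ ιC.toRingHom.toAlgebra _ fun x ↦ (ιC.commutes x).symm,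
    ?_⟩
  show Ideal.Quotient.mk P ((algebraMap C C' c) ⊗ₜ[A] (1 : k)) ≠ 0
  intro h0
  exact hP.ne_top (Ideal.eq_top_of_isUnit_mem _ (Ideal.Quotient.eq_zero_iff_mem.mp h0)
    ((IsLocalization.Away.algebraMap_isUnit (S := C') c).map (Algebra.TensorProduct.includeLeft (R := A) (S := A) (A := C') (B := k))))

/-- Reducedness goes up from a perfect field to an extension. -/
theorem isReduced_of_perfectField (B : Type u) [CommRing B] [Algebra A B] (k k' : Type u) [Field k] [PerfectField k]
    [Field k'] [Algebra A k] [Algebra A k'] [Algebra k k'] [IsScalarTower A k k'] [IsReduced (k ⊗[A] B)] :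
    IsReduced (k' ⊗[A] B) := by
  have h1 := Groth.Agent.FSField.formallySmooth_of_perfectField k k'
  have : Algebra.IsGeometricallyReduced k k' := (S2451.result (k := k) (K := k')).mp h1
  have : IsReduced (k' ⊗[k] (k ⊗[A] B)) := Groth.Agent.GeomRedPull.isReduced_tensor fun K _ _ ↦
    have := Groth.Agent.GeomRedPull.isReduced_field_tensor (k := k) (A := k') K
    isReduced_of_injective (Algebra.TensorProduct.comm k k' K).toRingHom (Algebra.TensorProduct.comm k k' K).injective
  exact isReduced_of_injective (Algebra.TensorProduct.cancelBaseChange A k k' k' B).symm.toRingHom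
    (Algebra.TensorProduct.cancelBaseChange A k k' k' B).symm.injective

/-- Transfer of non-reducedness along a base change. -/
theorem not_isReduced_of_baseChange (B : Type u) [CommRing B] [Algebra A B] (C k' : Type u) [CommRing C] [CommRing k']
    [Algebra A C] [Algebra A k'] [Algebra C k'] [IsScalarTower A C k'] (h : ¬ IsReduced (k' ⊗[C] (C ⊗[A] B))) :
    ¬ IsReduced (k' ⊗[A] B) := fun _ ↦ h
  (isReduced_of_injective (Algebra.TensorProduct.cancelBaseChange A C k' k' B).toRingHom
    (Algebra.TensorProduct.cancelBaseChange A C k' k' B).injective)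

/-- A non-reduced fibre over the fractions of a subalgebra spreads to the perfect fields over an open set. -/
theorem exists_forall_not_geometricallyReduced_aux (B : Type u) [CommRing B] [Algebra A B] [Algebra.FiniteType A B]
    (C : Type u) [CommRing C] [IsDomain C] [Algebra A C] [Algebra.FiniteType A C]
    (hinj : Function.Injective (algebraMap A C)) (h : ¬ IsReduced (FractionRing C ⊗[A] B)) :
    ∃ a : A, a ≠ 0 ∧ ∀ (k : Type u) [Field k] [PerfectField k] [Algebra A k], algebraMap A k a ≠ 0 → ¬ IsReduced (k ⊗[A] B) := by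
  obtain ⟨c, hc, hcred⟩ := exists_forall_not_isReduced (A := C) (C ⊗[A] B) fun hred ↦ h
    (isReduced_of_injective (Algebra.TensorProduct.cancelBaseChange A C (FractionRing C) (FractionRing C) B).symm.toRingHom
      (Algebra.TensorProduct.cancelBaseChange A C (FractionRing C) (FractionRing C) B).symm.injective)
  obtain ⟨a, ha, hext⟩ := exists_forall_field_extension C hinj c hc
  refine ⟨a, ha, fun k _ _ _ hk hred ↦ ?_⟩
  obtain ⟨k', _, _, _, _, _, _, hck⟩ := hext k hk
  exact not_isReduced_of_baseChange B C k' (hcred k' hck) (isReduced_of_perfectField B k k')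

/-- A non-reduced geometric generic fibre spreads to the perfect fields over an open set. -/
theorem exists_forall_not_geometricallyReduced (B : Type u) [CommRing B] [Algebra A B] [Algebra.FiniteType A B]
    {Ω : Type u} [Field Ω] [Algebra A Ω] (hΩ : Function.Injective (algebraMap A Ω)) (h : ¬ IsReduced (Ω ⊗[A] B)) :
    ∃ a : A, a ≠ 0 ∧ ∀ (k : Type u) [Field k] [PerfectField k] [Algebra A k], algebraMap A k a ≠ 0 → ¬ IsReduced (k ⊗[A] B) := by
  obtain ⟨C, hCfg, hL⟩ := exists_fg_not_isReduced B h
  have : Algebra.FiniteType A C := (Subalgebra.fg_iff_finiteType C).mp hCfg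
  exact exists_forall_not_geometricallyReduced_aux B C
    (fun x y hxy ↦ hΩ (congrArg Subtype.val hxy)) hL

end Groth.Agent.GeomRedSpread
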