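import Groth.Agent.GeomRedSpread.Scheme
import Groth.Agent.ConsEngine.Fiber

/-!
# Reducedness of fibres near a point along its closure
-/

set_option autoImplicit false
set_option linter.style.haveILetI false

universe u

open CategoryTheory AlgebraicGeometry Limits TopologicalSpace

namespace Groth.Agent.GeomRedSpread

variable {X Y : Scheme.{u}}

/-- A geometric point over a point. -/
noncomputable abbrev geoPt (y : Y) : Spec (CommRingCat.of (AlgebraicClosure (Y.residueField y))) ⟶ Y :=
  Spec.map (CommRingCat.ofHom (algebraMap (Y.residueField y) (AlgebraicClosure (Y.residueField y)))) ≫ Y.fromSpecResidueField y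

theorem geoPt_apply (y : Y) (s) : geoPt y s = y := by
  rw [Scheme.Hom.comp_apply]
  exact Scheme.fromSpecResidueField_apply _ _

/-- A fibre is geometrically reduced exactly when its geometric fibre is reduced. -/
theorem geometricallyReduced_fiber_iff (f : X ⟶ Y) (y : Y) :
    GeometricallyReduced (f.fiberToSpecResidueField y) ↔ AlgebraicGeometry.IsReduced (pullback f (geoPt y)) := by
  let v := Spec.map (CommRingCat.ofHom (algebraMap (Y.residueField y) (AlgebraicClosure (Y.residueField y))))
  let e : FBase.bc (k := Y.residueField y) (f.fiberToSpecResidueField y) (AlgebraicClosure (Y.residueField y)) ≅ pullback f (geoPt y) :=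
    pullbackLeftPullbackSndIso f (Y.fromSpecResidueField y) v
  constructor
  · intro h
    have : AlgebraicGeometry.IsReduced (FBase.bc (k := Y.residueField y) (f.fiberToSpecResidueField y) (AlgebraicClosure (Y.residueField y))) :=
      h.geometrically_isReduced _ (pullback.fst _ _) (pullback.snd _ _) (.of_hasPullback _ _)
    exact isReduced_of_isOpenImmersion e.inv
  · intro h
    have : AlgebraicGeometry.IsReduced (FBase.bc (k := Y.residueField y) (f.fiberToSpecResidueField y) (AlgebraicClosure (Y.residueField y))) :=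
      isReduced_of_isOpenImmersion e.hom
    exact S2535.result (k := Y.residueField y) (Ω := AlgebraicClosure (Y.residueField y)) (f.fiberToSpecResidueField y)

/-- Over a domain, a morphism of a field to the spectrum is given by an algebra structure. -/
theorem mem_of_point {A : Type u} [CommRing A] (k : Type u) [Field k] [Algebra A k] (t : ↥(Spec (CommRingCat.of A)))
    (h : Spec.map (CommRingCat.ofHom (algebraMap A k)) (IsLocalRing.closedPoint k) = t) :
    GeomFib.pt (A := A) k = t := by
  rw [← h]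
  exact (GeomFib.range_SpecMap_field k).le ⟨_, rfl⟩ |>.symm

/-- Over a domain, geometric reducedness of the fibres is constant near the generic point. -/
theorem exists_forall_geometricallyReduced_fiber_iff {A : Type u} [CommRing A] [IsDomain A]
    (g : X ⟶ Spec (CommRingCat.of A)) [LocallyOfFiniteType g] [QuasiCompact g] :
    ∃ a : A, a ≠ 0 ∧ ∀ t : PrimeSpectrum A, a ∉ t.asIdeal →
      (GeometricallyReduced (g.fiberToSpecResidueField t) ↔
        GeometricallyReduced (g.fiberToSpecResidueField (GeomFib.gpt (A := A)))) := by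
  -- geometric points as algebras
  have key : ∀ t : ↥(Spec (CommRingCat.of A)), ∃ (k : Type u) (_ : Field k) (_ : IsAlgClosed k) (_ : Algebra A k),
      GeomFib.pt (A := A) k = t ∧ (GeometricallyReduced (g.fiberToSpecResidueField t) ↔
        AlgebraicGeometry.IsReduced (pullback g (Spec.map (CommRingCat.ofHom (algebraMap A k))))) := by
    intro t
    obtain ⟨φ, hφ⟩ := Spec.map_surjective (geoPt t)
    letI : Algebra A (AlgebraicClosure ((Spec (CommRingCat.of A)).residueField t)) := φ.hom.toAlgebra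
    refine ⟨AlgebraicClosure ((Spec (CommRingCat.of A)).residueField t), inferInstance, inferInstance, inferInstance, ?_, ?_⟩
    · refine mem_of_point _ t ?_
      show (Spec.map φ) _ = t
      rw [hφ]
      exact geoPt_apply t _
    · show _ ↔ AlgebraicGeometry.IsReduced (pullback g (Spec.map φ))
      rw [hφ]
      exact geometricallyReduced_fiber_iff g t
  obtain ⟨Ω, _, _, _, hΩ, hiff⟩ := key (GeomFib.gpt (A := A))
  have hinj : Function.Injective (algebraMap A Ω) :=
    (RingHom.injective_iff_ker_eq_bot _).mpr (congrArg PrimeSpectrum.asIdeal hΩ)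
  by_cases h : GeometricallyReduced (g.fiberToSpecResidueField (GeomFib.gpt (A := A)))
  · obtain ⟨a, ha, hk⟩ := exists_forall_isReduced_pullback g hinj (hiff.mp h)
    refine ⟨a, ha, fun t ht ↦ iff_of_true ?_ h⟩
    obtain ⟨k, _, _, _, hkt, hkiff⟩ := key t
    exact hkiff.mpr (hk k ((GeomFib.mem_basicOpen_pt_iff k a).mp (hkt ▸ ht)))
  · obtain ⟨a, ha, hk⟩ := exists_forall_not_isReduced_pullback_geom g hinj (fun h' ↦ h (hiff.mpr h'))
    refine ⟨a, ha, fun t ht ↦ iff_of_false (fun h' ↦ ?_) h⟩
    obtain ⟨k, _, _, _, hkt, hkiff⟩ := key t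
    exact hk k ((GeomFib.mem_basicOpen_pt_iff k a).mp (hkt ▸ ht)) (hkiff.mp h')

/-- Geometric reducedness of the fibres is constant near a point on its closure. -/
theorem exists_open_geometricallyReduced_iff (f : X ⟶ Y) [LocallyOfFiniteType f] [QuasiCompact f] (y : Y) :
    ∃ O : Y.Opens, y ∈ O ∧ ∀ y' ∈ O, y ⤳ y' →
      (GeometricallyReduced (f.fiberToSpecResidueField y') ↔ GeometricallyReduced (f.fiberToSpecResidueField y)) := by
  obtain ⟨A, _, _, σ, hσ, hO⟩ := GeomFib.exists_integral_chart y
  obtain ⟨a, ha, h⟩ := exists_forall_geometricallyReduced_fiber_iff (pullback.snd f σ)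
  obtain ⟨O, hyO, hO⟩ := hO a ha
  have hbc : ∀ t, GeometricallyReduced ((pullback.snd f σ).fiberToSpecResidueField t) ↔
      GeometricallyReduced (f.fiberToSpecResidueField (σ t)) := fun t ↦
    Set.ext_iff.mp (S9735.result f σ (pullback.snd f σ) (pullback.fst f σ) (IsPullback.of_hasPullback f σ)) t
  refine ⟨O, hyO, fun y' hy' hs ↦ ?_⟩
  obtain ⟨t, ht, rfl⟩ := hO y' hy' hs
  rw [← hbc, h t ht, hbc, show σ (GeomFib.gpt (A := A)) = y from hσ]

/-- The chart along the closure of a point may be taken to be a preimmersion. -/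
theorem exists_integral_chart_preimmersion (y : Y) :
    ∃ (A : Type u) (_ : CommRing A) (_ : IsDomain A) (σ : Spec (CommRingCat.of A) ⟶ Y), IsPreimmersion σ ∧
      σ (⟨⊥, Ideal.isPrime_bot⟩ : PrimeSpectrum A) = y ∧ ∀ a : A, a ≠ 0 → ∃ O : Y.Opens, y ∈ O ∧
        ∀ y' ∈ O, y ⤳ y' → ∃ t : PrimeSpectrum A, a ∉ t.asIdeal ∧ σ t = y' := by
  obtain ⟨_, ⟨V, hV, rfl⟩, hyV, -⟩ := Y.isBasis_affineOpens.exists_subset_of_mem_open
    (Set.mem_univ y) isOpen_univ
  obtain ⟨p, hp⟩ : ∃ p : PrimeSpectrum Γ(Y, V), hV.fromSpec p = y :=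
    ⟨hV.primeIdealOf ⟨y, hyV⟩, hV.fromSpec_primeIdealOf ⟨y, hyV⟩⟩
  let m := Ideal.Quotient.mk p.asIdeal
  have : IsClosedImmersion (Spec.map (CommRingCat.ofHom m)) :=
    IsClosedImmersion.spec_of_surjective _ Ideal.Quotient.mk_surjective
  refine ⟨Γ(Y, V) ⧸ p.asIdeal, inferInstance, inferInstance,
    Spec.map (CommRingCat.ofHom m) ≫ hV.fromSpec, inferInstance, ?_, fun a ha ↦ ?_⟩
  · rw [Scheme.Hom.comp_apply, ← hp]
    congr 1
    exact PrimeSpectrum.ext (show (⊥ : Ideal (Γ(Y, V) ⧸ p.asIdeal)).comap m = p.asIdeal by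
      rw [← RingHom.ker_eq_comap_bot, Ideal.mk_ker])
  obtain ⟨r, rfl⟩ := Ideal.Quotient.mk_surjective a
  refine ⟨hV.fromSpec ''ᵁ (PrimeSpectrum.basicOpen r : (Spec Γ(Y, V)).Opens),
    ⟨p, fun h ↦ ha (Ideal.Quotient.eq_zero_iff_mem.mpr h), hp⟩, ?_⟩
  rintro _ ⟨q, hq, rfl⟩ hsp
  rw [← hp] at hsp
  have hle : p.asIdeal ≤ (q : PrimeSpectrum Γ(Y, V)).asIdeal :=
    (PrimeSpectrum.le_iff_specializes p q).mpr (hV.fromSpec.isOpenEmbedding.isInducing.specializes_iff.mp hsp)
  have hmap : (Ideal.map m (q : PrimeSpectrum Γ(Y, V)).asIdeal).comap m = (q : PrimeSpectrum Γ(Y, V)).asIdeal := by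
    rw [Ideal.comap_map_of_surjective m Ideal.Quotient.mk_surjective, ← RingHom.ker_eq_comap_bot, Ideal.mk_ker]
    exact sup_eq_left.mpr hle
  have hprime : (Ideal.map m (q : PrimeSpectrum Γ(Y, V)).asIdeal).IsPrime :=
    Ideal.map_isPrime_of_surjective Ideal.Quotient.mk_surjective (by rw [Ideal.mk_ker]; exact hle)
  refine ⟨⟨_, hprime⟩, fun h ↦ hq (hmap.le h), ?_⟩
  rw [Scheme.Hom.comp_apply]
  congr 1
  exact PrimeSpectrum.ext hmap

/-- A non-reduced fibre stays non-reduced nearby on the closure of the point. -/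
theorem exists_open_not_isReduced_fiber (f : X ⟶ Y) [LocallyOfFiniteType f] [QuasiCompact f] (y : Y)
    (h : ¬ AlgebraicGeometry.IsReduced (f.fiber y)) :
    ∃ O : Y.Opens, y ∈ O ∧ ∀ y' ∈ O, y ⤳ y' → ¬ AlgebraicGeometry.IsReduced (f.fiber y') := by
  obtain ⟨A, _, _, σ, hσi, hσ, hO⟩ := exists_integral_chart_preimmersion y
  let g := pullback.snd f σ
  -- fibres over points with a field: transfer along flat surjective maps
  have hdown : ∀ (k : Type u) [Field k] (v : Spec (CommRingCat.of k) ⟶ Spec (CommRingCat.of A)) (t : ↥(Spec (CommRingCat.of A))),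
      v (IsLocalRing.closedPoint k) = t → AlgebraicGeometry.IsReduced (pullback g v) →
        AlgebraicGeometry.IsReduced (f.fiber (σ t)) := by
    intro k _ v t hvt hred
    obtain ⟨⟨p, φ⟩, hpφ⟩ : ∃ p, v ≫ σ = (Scheme.SpecToEquivOfField k Y).symm p :=
      ⟨Scheme.SpecToEquivOfField k Y (v ≫ σ), (Equiv.symm_apply_apply _ _).symm⟩
    change v ≫ σ = Spec.map φ ≫ Y.fromSpecResidueField p at hpφ
    have hp : p = σ t := by
      rw [← hvt, ← Scheme.Hom.comp_apply, hpφ, Scheme.Hom.comp_apply]
      exact (Scheme.fromSpecResidueField_apply _ _).symm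
    subst hp
    let e : pullback g v ≅ pullback (f.fiberToSpecResidueField (σ t)) (Spec.map φ) :=
      (pullbackLeftPullbackSndIso f σ v).trans ((pullback.congrHom rfl hpφ).trans
        (pullbackLeftPullbackSndIso f (Y.fromSpecResidueField (σ t)) (Spec.map φ)).symm)
    have : AlgebraicGeometry.IsReduced (pullback (f.fiberToSpecResidueField (σ t)) (Spec.map φ)) :=
      isReduced_of_isOpenImmersion e.inv
    obtain ⟨h1, h2⟩ := FlatMor.flat_surjective_spec_field_hom φ.hom
    have : Flat (Spec.map φ) := h1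
    have : Surjective (Spec.map φ) := h2
    exact FlatMor.isReduced_of_flat_surjective (pullback.fst (f.fiberToSpecResidueField (σ t)) (Spec.map φ))
  obtain ⟨a, ha, hk⟩ := exists_forall_not_isReduced_pullback g fun hred ↦ h (hσ ▸ hdown (FractionRing A)
    (Spec.map (CommRingCat.ofHom (algebraMap A (FractionRing A)))) (GeomFib.gpt (A := A)) (by
      refine ((GeomFib.range_SpecMap_field (A := A) (FractionRing A)).le ⟨_, rfl⟩).trans ?_
      exact GeomFib.pt_eq_bot _ (IsFractionRing.injective A _)) hred)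
  obtain ⟨O, hyO, hO⟩ := hO a ha
  refine ⟨O, hyO, fun y' hy' hs hred ↦ ?_⟩
  obtain ⟨t, ht, rfl⟩ := hO y' hy' hs
  -- residue fields are the same
  have : IsIso (σ.residueFieldMap t) := by
    refine (ConcreteCategory.isIso_iff_bijective _).mpr ⟨(σ.residueFieldMap t).hom.injective, fun z ↦ ?_⟩
    obtain ⟨z, rfl⟩ := IsLocalRing.residue_surjective z
    obtain ⟨w, rfl⟩ := σ.stalkMap_surjective t z
    exact ⟨IsLocalRing.residue _ w, rfl⟩
  obtain ⟨φ, hφ⟩ := Spec.map_surjective ((Spec (CommRingCat.of A)).fromSpecResidueField t)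
  letI : Algebra A ((Spec (CommRingCat.of A)).residueField t) := φ.hom.toAlgebra
  refine hk ((Spec (CommRingCat.of A)).residueField t) ?_ ?_
  · refine (GeomFib.mem_basicOpen_pt_iff _ a).mp ((mem_of_point ((Spec (CommRingCat.of A)).residueField t) t ?_).symm ▸ ht)
    show (Spec.map φ) _ = t
    rw [hφ]
    exact Scheme.fromSpecResidueField_apply _ _
  · show AlgebraicGeometry.IsReduced (pullback g (Spec.map φ))
    rw [hφ]
    have hiso : IsIso (ConsEngine.fiberBC (IsPullback.of_hasPullback f σ) t) :=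
      (ConsEngine.isPullback_fiberBC (IsPullback.of_hasPullback f σ) t).isIso_fst_of_isIso
    exact @AlgebraicGeometry.isReduced_of_isOpenImmersion _ _
      (ConsEngine.fiberBC (IsPullback.of_hasPullback f σ) t) (@IsOpenImmersion.of_isIso _ _ _ hiso) hred

end Groth.Agent.GeomRedSpread
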