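import Groth.Agent.GeomRedSpread.Core
import Groth.Agent.S0389

/-!
# Spreading reducedness and non-reducedness over a domain
-/

set_option autoImplicit false
set_option linter.style.haveILetI false
set_option linter.unusedSectionVars false

universe u

open TensorProduct

namespace Groth.Agent.GeomRedSpread

/-- A split injection with the splitting stays injective after tensoring. -/
theorem lTensor_injective_of_projective {R N M P : Type u} [CommRing R] [AddCommGroup N] [Module R N]
    [AddCommGroup M] [Module R M] [AddCommGroup P] [Module R P] [Module.Projective R P]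
    {f : N →ₗ[R] M} {g : M →ₗ[R] P} (hf : Function.Injective f) (hfg : Function.Exact f g)
    (hg : Function.Surjective g) (Q : Type u) [AddCommGroup Q] [Module R Q] :
    Function.Injective (f.lTensor Q) := by
  obtain ⟨σ, hσ⟩ := Module.projective_lifting_property g LinearMap.id hg
  obtain ⟨r, hr⟩ : ∃ r : M →ₗ[R] N, r ∘ₗ f = LinearMap.id :=
    ((hfg.split_tfae hf hg).out 0 1 (a := ∃ l, g ∘ₗ l = LinearMap.id) (b := ∃ l, l ∘ₗ f = LinearMap.id)).mp ⟨σ, hσ⟩
  intro x y h
  have := congrArg (r.lTensor Q) h
  rwa [← LinearMap.lTensor_comp_apply, ← LinearMap.lTensor_comp_apply, hr, LinearMap.lTensor_id_apply,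
    LinearMap.lTensor_id_apply] at this

/-- Smoothness at the primes of the generic fibre, from the generic fibre. -/
theorem isSmoothAt_of_generic {R T K S : Type u} [CommRing R] [IsDomain R] [CommRing T] [Algebra R T]
    [Field K] [Algebra R K] [IsFractionRing R K] [CommRing S] [Algebra T S] [Algebra K S] [Algebra R S]
    [IsScalarTower R K S] [IsScalarTower R T S]
    [IsLocalization (Algebra.algebraMapSubmonoid T (nonZeroDivisors R)) S]
    (q : PrimeSpectrum T) (hq : q.asIdeal.comap (algebraMap R T) = ⊥)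
    (h : ∀ q' : PrimeSpectrum S, q'.asIdeal.comap (algebraMap T S) = q.asIdeal → Algebra.IsSmoothAt K q'.asIdeal) :
    Algebra.IsSmoothAt R q.asIdeal := by
  have hd : Disjoint (Algebra.algebraMapSubmonoid T (nonZeroDivisors R) : Set T) (q.asIdeal : Set T) := by
    rw [Set.disjoint_left]
    rintro _ ⟨r, hr, rfl⟩ hm
    have h0 : r ∈ q.asIdeal.comap (algebraMap R T) := hm
    rw [hq, Ideal.mem_bot] at h0
    exact nonZeroDivisors.ne_zero hr h0
  let M := Algebra.algebraMapSubmonoid T (nonZeroDivisors R)
  let q' : PrimeSpectrum S := ⟨q.asIdeal.map (algebraMap T S),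
    IsLocalization.isPrime_of_isPrime_disjoint M S q.asIdeal q.2 hd⟩
  have hcomap : q'.asIdeal.comap (algebraMap T S) = q.asIdeal :=
    IsLocalization.comap_map_of_isPrime_disjoint M S q.2 hd
  have := q'.isPrime
  let L := Localization.AtPrime q'.asIdeal
  have : Algebra.FormallySmooth K L := h q' hcomap
  have : Algebra.FormallySmooth R K := Algebra.FormallySmooth.of_isLocalization (nonZeroDivisors R)
  have : Algebra.FormallySmooth R L := Algebra.FormallySmooth.comp R K L
  have hloc : IsLocalization.AtPrime L (q'.asIdeal.comap (algebraMap T S)) :=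
    IsLocalization.isLocalization_isLocalization_atPrime_isLocalization M L q'.asIdeal
  have hloc' : IsLocalization.AtPrime L q.asIdeal := by
    convert hloc using 1
    exact hcomap.symm
  exact Algebra.FormallySmooth.of_equiv ((IsLocalization.algEquiv q.asIdeal.primeCompl L
    (Localization.AtPrime q.asIdeal)).restrictScalars R)

/-- Geometric reducedness of the generic fibre spreads out, for a free finitely presented algebra. -/
theorem exists_forall_isReduced_core {R T K S : Type u} [CommRing R] [IsDomain R] [CommRing T] [Algebra R T]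
    [Algebra.FinitePresentation R T] [Field K] [Algebra R K] [IsFractionRing R K] [CommRing S] [Algebra T S]
    [Algebra K S] [Algebra R S] [IsScalarTower R K S] [IsScalarTower R T S]
    [IsLocalization (Algebra.algebraMapSubmonoid T (nonZeroDivisors R)) S]
    [Module.Free R T] (b : T) (hb : algebraMap T S b ∈ nonZeroDivisors S)
    [Module.Projective R (T ⧸ Ideal.span ({b} : Set T))]
    (hsm : ∀ q : PrimeSpectrum S, algebraMap T S b ∉ q.asIdeal → Algebra.IsSmoothAt K q.asIdeal) :
    ∃ a : R, a ≠ 0 ∧ ∀ (k : Type u) [Field k] [Algebra R k], algebraMap R k a ≠ 0 → IsReduced (k ⊗[R] T) := by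
  obtain ⟨J, hJ⟩ := (PrimeSpectrum.isClosed_iff_zeroLocus_ideal _).mp
    (Algebra.isOpen_smoothLocus (R := R) (A := T)).isClosed_compl
  -- a nonzero scalar times a power of `b` lies in the ideal of the singular locus
  obtain ⟨a, ha, n, han⟩ : ∃ a : R, a ≠ 0 ∧ ∃ n : ℕ, algebraMap R T a * b ^ n ∈ J := by
    by_contra hne
    push Not at hne
    let M := Algebra.algebraMapSubmonoid T (nonZeroDivisors R) ⊔ Submonoid.powers b
    obtain ⟨q, hq, hJq, hdis⟩ := Ideal.exists_le_prime_disjoint J M (by
      rw [Set.disjoint_left]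
      intro x hxJ hxM
      obtain ⟨_, ⟨r, hr, rfl⟩, _, ⟨n, rfl⟩, rfl⟩ := Submonoid.mem_sup.mp hxM
      exact hne r (nonZeroDivisors.ne_zero hr) n hxJ)
    have hq0 : q.comap (algebraMap R T) = ⊥ := eq_bot_iff.mpr fun r hr ↦ by
      by_contra hr0
      exact Set.disjoint_left.mp hdis hr
        ((le_sup_left : _ ≤ M) ⟨r, mem_nonZeroDivisors_of_ne_zero hr0, rfl⟩)
    have hqb : b ∉ q := fun h ↦ Set.disjoint_left.mp hdis h ((le_sup_right : _ ≤ M) ⟨1, pow_one b⟩)
    have h1 : (⟨q, hq⟩ : PrimeSpectrum T) ∈ Algebra.smoothLocus R T :=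
      isSmoothAt_of_generic (K := K) (S := S) ⟨q, hq⟩ hq0 fun q' hq' ↦
        hsm q' fun hmem ↦ hqb (hq'.le hmem)
    exact (hJ.ge (show (⟨q, hq⟩ : PrimeSpectrum T) ∈ PrimeSpectrum.zeroLocus (J : Set T) from hJq)) h1
  let c := algebraMap R T a * b
  have hsmc : Algebra.Smooth R (Localization.Away c) := by
    rw [← Algebra.basicOpen_subset_smoothLocus_iff_smooth]
    intro q hq
    by_contra hns
    have h1 : algebraMap R T a * b ^ n ∈ q.asIdeal := (hJ.le hns) han
    rcases q.2.mem_or_mem h1 with h2 | h2
    · exact hq (Ideal.mul_mem_right b _ h2)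
    · exact hq (Ideal.mul_mem_left _ _ (q.2.mem_of_pow_mem n h2))
  refine ⟨a, ha, fun k _ _ hak ↦ ?_⟩
  -- multiplication by `b` is injective on the fibre
  have hinjT : Function.Injective (algebraMap T S) := by
    refine IsLocalization.injective (M := Algebra.algebraMapSubmonoid T (nonZeroDivisors R)) S ?_
    rintro _ ⟨r, hr, rfl⟩
    refine mem_nonZeroDivisors_iff_right.mpr fun x hx ↦ ?_
    have h1 : r • x = 0 := by rw [Algebra.smul_def, mul_comm]; exact hx
    exact (smul_eq_zero.mp h1).resolve_left (nonZeroDivisors.ne_zero hr)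
  have hbinj : Function.Injective (LinearMap.mulLeft R b) := by
    rw [injective_iff_map_eq_zero]
    intro x hx
    exact hinjT ((mem_nonZeroDivisors_iff_left.mp hb _ (by
      rw [← map_mul, show b * x = 0 from hx, map_zero])).trans (map_zero _).symm)
  have hex : Function.Exact (LinearMap.mulLeft R b) ((Ideal.Quotient.mkₐ R (Ideal.span ({b} : Set T))).toLinearMap) := by
    intro x
    show Ideal.Quotient.mk (Ideal.span ({b} : Set T)) x = 0 ↔ _
    rw [Ideal.Quotient.eq_zero_iff_mem, Ideal.mem_span_singleton]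
    exact ⟨fun ⟨y, hy⟩ ↦ ⟨y, hy.symm⟩, fun ⟨y, hy⟩ ↦ ⟨y, hy.symm⟩⟩
  have hk := lTensor_injective_of_projective hbinj hex Ideal.Quotient.mk_surjective k
  have hmul : ∀ x : k ⊗[R] T, (LinearMap.mulLeft R b).lTensor k x = ((1 : k) ⊗ₜ[R] b) * x := by
    intro x
    induction x using TensorProduct.induction_on with
    | zero => simp
    | tmul s t => rw [LinearMap.lTensor_tmul, Algebra.TensorProduct.tmul_mul_tmul, one_mul]; rfl
    | add x y hx hy => rw [map_add, hx, hy, mul_add]
  have hc : (1 : k) ⊗ₜ[R] c ∈ nonZeroDivisors (k ⊗[R] T) := by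
    have h1 : (1 : k) ⊗ₜ[R] c = (algebraMap R k a ⊗ₜ[R] (1 : T)) * ((1 : k) ⊗ₜ[R] b) := by
      show (1 : k) ⊗ₜ[R] (algebraMap R T a * b) = _
      rw [Algebra.TensorProduct.tmul_mul_tmul, one_mul, mul_one, Algebra.algebraMap_eq_smul_one,
        Algebra.algebraMap_eq_smul_one, smul_mul_assoc, one_mul, TensorProduct.tmul_smul, TensorProduct.smul_tmul']
    rw [h1]
    refine mul_mem ?_ (mem_nonZeroDivisors_iff_left.mpr fun x hx ↦ hk (by rw [hmul, hx, map_zero]))
    exact (((Ne.isUnit hak).map (Algebra.TensorProduct.includeLeftRingHom (R := R) (A := k) (B := T)))).mem_nonZeroDivisors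
  have : IsReduced (k ⊗[R] Localization.Away c) :=
    Groth.Agent.SmoothRed.isReduced_of_smooth k (k ⊗[R] Localization.Away c)
  have hred : IsReduced (Localization.Away ((1 : k) ⊗ₜ[R] c)) :=
    isReduced_of_injective (IsLocalization.Away.tensorProductEquivTMulRight R k c (Localization.Away c)).symm.toRingHom
      (IsLocalization.Away.tensorProductEquivTMulRight R k c (Localization.Away c)).symm.injective
  exact isReduced_of_injective (algebraMap (k ⊗[R] T) (Localization.Away ((1 : k) ⊗ₜ[R] c)))
    (IsLocalization.injective _ (Submonoid.powers_le.mpr hc))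

end Groth.Agent.GeomRedSpread
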