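import Groth.Agent.GeomRedSpread.Spread
import Groth.Agent.GeomFib.Pieces
import Groth.Agent.GeomFib.NearPoint
import Groth.Agent.FlatMor.ReducedDescent
import Groth.Agent.S2535
import Groth.Agent.S9735

/-!
# Spreading reducedness of fibres: schemes
-/

set_option autoImplicit false
set_option linter.style.haveILetI false
set_option linter.unusedSectionVars false

universe u

open CategoryTheory AlgebraicGeometry Limits TopologicalSpace TensorProduct

namespace Groth.Agent.GeomRedSpread

variable {A : Type u} [CommRing A] {X : Scheme.{u}} (f : X ⟶ Spec (CommRingCat.of A))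

/-- An affine chart of the base changes. -/
theorem exists_chart [LocallyOfFiniteType f] (W : X.Opens) (hW : IsAffineOpen W) :
    ∃ (B : Type u) (_ : CommRing B) (_ : Algebra A B) (_ : Algebra.FiniteType A B),
      ∀ (k : Type u) [CommRing k] [Algebra A k],
        ∃ j : Spec (CommRingCat.of (B ⊗[A] k)) ⟶ pullback f (Spec.map (CommRingCat.ofHom (algebraMap A k))),
          IsOpenImmersion j ∧ Set.range j = (GeomFib.prj f k) ⁻¹' (W : Set X) := by
  let φ : CommRingCat.of A ⟶ Γ(X, W) := Spec.preimage (hW.fromSpec ≫ f)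
  have hφ : Spec.map φ = hW.fromSpec ≫ f := Spec.map_preimage _
  have hφft : φ.hom.FiniteType := (HasRingHomProperty.Spec_iff (P := @LocallyOfFiniteType)).mp
    (by rw [hφ]; infer_instance)
  letI : Algebra A Γ(X, W) := φ.hom.toAlgebra
  refine ⟨Γ(X, W), inferInstance, inferInstance, hφft, fun k _ _ ↦ ?_⟩
  let g := Spec.map (CommRingCat.ofHom (algebraMap A k))
  have hφ' : Spec.map (CommRingCat.ofHom (algebraMap A Γ(X, W))) = hW.fromSpec ≫ f := hφ
  let q := pullback.map (Spec.map (CommRingCat.ofHom (algebraMap A Γ(X, W)))) g f g hW.fromSpec (𝟙 _) (𝟙 _)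
    (by rw [Category.comp_id, hφ']) (by rw [Category.comp_id, Category.id_comp])
  have hq : IsOpenImmersion q :=
    MorphismProperty.pullbackMap (P := @IsOpenImmersion) inferInstance inferInstance hφ' (Category.id_comp g).symm
  refine ⟨(pullbackSpecIso A Γ(X, W) k).inv ≫ q, inferInstance, ?_⟩
  rw [show Set.range ((pullbackSpecIso A Γ(X, W) k).inv ≫ q) = Set.range q from
    (pullbackSpecIso A Γ(X, W) k).inv.surjective.range_comp _,
    Scheme.Pullback.range_map, hW.range_fromSpec]
  simp [g]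

/-- Reducedness of the base changes is read off finitely many algebras. -/
theorem exists_charts [LocallyOfFiniteType f] [QuasiCompact f] :
    ∃ (ι : Type u) (_ : Finite ι) (B : ι → Type u) (_ : ∀ i, CommRing (B i)) (_ : ∀ i, Algebra A (B i)),
      (∀ i, Algebra.FiniteType A (B i)) ∧ ∀ (k : Type u) [CommRing k] [Algebra A k],
        (AlgebraicGeometry.IsReduced (pullback f (Spec.map (CommRingCat.ofHom (algebraMap A k)))) ↔
          ∀ i, _root_.IsReduced (k ⊗[A] B i)) := by
  have : CompactSpace X := QuasiCompact.compactSpace_of_compactSpace f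
  obtain ⟨t, ht⟩ := isCompact_univ.elim_finite_subcover (fun W : X.affineOpens ↦ ((W : X.Opens) : Set X))
    (fun W ↦ (W : X.Opens).2) (fun x _ ↦ by
      obtain ⟨_, ⟨W, hW, rfl⟩, hxW, -⟩ := X.isBasis_affineOpens.exists_subset_of_mem_open
        (Set.mem_univ x) isOpen_univ
      exact Set.mem_iUnion.mpr ⟨⟨W, hW⟩, hxW⟩)
  choose B hB hBA hBft hj using fun W : {W // W ∈ t} ↦ exists_chart f (W.1 : X.Opens) W.1.2
  refine ⟨{W // W ∈ t}, inferInstance, B, hB, hBA, hBft, fun k _ _ ↦ ⟨fun hP W ↦ ?_, fun h ↦ ?_⟩⟩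
  · obtain ⟨j, hjo, -⟩ := hj W k
    have : AlgebraicGeometry.IsReduced (Spec (CommRingCat.of (B W ⊗[A] k))) := isReduced_of_isOpenImmersion j
    have : _root_.IsReduced (B W ⊗[A] k) := (affine_isReduced_iff (CommRingCat.of (B W ⊗[A] k))).1 this
    exact isReduced_of_injective (Algebra.TensorProduct.comm A k (B W)).toRingHom
      (Algebra.TensorProduct.comm A k (B W)).injective
  · have : ∀ x : ↥(pullback f (Spec.map (CommRingCat.ofHom (algebraMap A k)))),
        _root_.IsReduced ((pullback f (Spec.map (CommRingCat.ofHom (algebraMap A k)))).presheaf.stalk x) := by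
      intro x
      obtain ⟨W, hW, hxW⟩ := Set.mem_iUnion₂.mp (ht (Set.mem_univ (GeomFib.prj f k x)))
      obtain ⟨j, hjo, hjr⟩ := hj ⟨W, hW⟩ k
      obtain ⟨w, rfl⟩ := hjr.ge (show x ∈ (GeomFib.prj f k) ⁻¹' ((W : X.Opens) : Set X) from hxW)
      have := h ⟨W, hW⟩
      have : _root_.IsReduced (B ⟨W, hW⟩ ⊗[A] k) := isReduced_of_injective
        (Algebra.TensorProduct.comm A (B ⟨W, hW⟩) k).toRingHom (Algebra.TensorProduct.comm A (B ⟨W, hW⟩) k).injective
      have : AlgebraicGeometry.IsReduced (Spec (CommRingCat.of (B ⟨W, hW⟩ ⊗[A] k))) :=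
        (affine_isReduced_iff (CommRingCat.of (B ⟨W, hW⟩ ⊗[A] k))).2 this
      exact isReduced_of_injective (asIso (j.stalkMap w)).commRingCatIsoToRingEquiv.toRingHom
        (asIso (j.stalkMap w)).commRingCatIsoToRingEquiv.injective
    exact isReduced_of_isReduced_stalk _

variable [IsDomain A]

theorem exists_common {ι : Type u} [Finite ι] (a : ι → A) (ha : ∀ i, a i ≠ 0) :
    ∃ b : A, b ≠ 0 ∧ ∀ (k : Type u) [CommRing k] [Algebra A k], algebraMap A k b ≠ 0 → ∀ i, algebraMap A k (a i) ≠ 0 := by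
  classical
  cases nonempty_fintype ι
  refine ⟨∏ i, a i, Finset.prod_ne_zero_iff.mpr fun i _ ↦ ha i, fun k _ _ hk i hi ↦ hk ?_⟩
  rw [map_prod]
  exact Finset.prod_eq_zero (Finset.mem_univ i) hi

/-- A reduced geometric generic fibre spreads out. -/
theorem exists_forall_isReduced_pullback [LocallyOfFiniteType f] [QuasiCompact f] {Ω : Type u} [Field Ω] [IsAlgClosed Ω]
    [Algebra A Ω] (hΩ : Function.Injective (algebraMap A Ω))
    (h : AlgebraicGeometry.IsReduced (pullback f (Spec.map (CommRingCat.ofHom (algebraMap A Ω))))) :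
    ∃ a : A, a ≠ 0 ∧ ∀ (k : Type u) [Field k] [Algebra A k], algebraMap A k a ≠ 0 →
      AlgebraicGeometry.IsReduced (pullback f (Spec.map (CommRingCat.ofHom (algebraMap A k)))) := by
  obtain ⟨ι, _, B, _, _, hft, hiff⟩ := exists_charts f
  have hB := (hiff Ω).mp h
  have key : ∀ i, ∃ a : A, a ≠ 0 ∧ ∀ (k : Type u) [Field k] [Algebra A k], algebraMap A k a ≠ 0 → _root_.IsReduced (k ⊗[A] B i) := by
    intro i
    have := hft i
    have := hB i
    let K := FractionRing A
    letI : Algebra K Ω := (IsFractionRing.lift hΩ).toAlgebra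
    haveI : IsScalarTower A K Ω := .of_algebraMap_eq fun x ↦ (IsFractionRing.lift_algebraMap hΩ x).symm
    have h1 : _root_.IsReduced (Ω ⊗[K] (K ⊗[A] B i)) := isReduced_of_injective
      (Algebra.TensorProduct.cancelBaseChange A K Ω Ω (B i)).toRingHom
      (Algebra.TensorProduct.cancelBaseChange A K Ω Ω (B i)).injective
    let c : AlgebraicClosure K →ₐ[K] Ω := IsAlgClosed.lift
    have : Algebra.IsGeometricallyReduced K (K ⊗[A] B i) := (Algebra.isGeometricallyReduced_field_iff K _).mpr
      (isReduced_of_injective (Algebra.TensorProduct.map c (AlgHom.id K (K ⊗[A] B i)))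
        (Module.Flat.rTensor_preserves_injective_linearMap c.toLinearMap c.toRingHom.injective))
    exact exists_forall_isReduced (B i)
  choose a ha hk using key
  obtain ⟨b, hb, hbk⟩ := exists_common a ha
  exact ⟨b, hb, fun k _ _ hkb ↦ (hiff k).mpr fun i ↦ hk i k (hbk k hkb i)⟩

/-- A non-reduced geometric generic fibre spreads out to perfect fields. -/
theorem exists_forall_not_isReduced_pullback_geom [LocallyOfFiniteType f] [QuasiCompact f] {Ω : Type u} [Field Ω]
    [Algebra A Ω] (hΩ : Function.Injective (algebraMap A Ω))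
    (h : ¬ AlgebraicGeometry.IsReduced (pullback f (Spec.map (CommRingCat.ofHom (algebraMap A Ω))))) :
    ∃ a : A, a ≠ 0 ∧ ∀ (k : Type u) [Field k] [PerfectField k] [Algebra A k], algebraMap A k a ≠ 0 →
      ¬ AlgebraicGeometry.IsReduced (pullback f (Spec.map (CommRingCat.ofHom (algebraMap A k)))) := by
  obtain ⟨ι, _, B, _, _, hft, hiff⟩ := exists_charts f
  obtain ⟨i, hi⟩ : ∃ i, ¬ _root_.IsReduced (Ω ⊗[A] B i) := not_forall.mp fun hall ↦ h ((hiff Ω).mpr hall)
  have := hft i
  obtain ⟨a, ha, hk⟩ := exists_forall_not_geometricallyReduced (B i) hΩ hi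
  exact ⟨a, ha, fun k _ _ _ hka hred ↦ hk k hka ((hiff k).mp hred i)⟩

/-- A non-reduced generic fibre spreads out. -/
theorem exists_forall_not_isReduced_pullback [LocallyOfFiniteType f] [QuasiCompact f]
    (h : ¬ AlgebraicGeometry.IsReduced (pullback f (Spec.map (CommRingCat.ofHom (algebraMap A (FractionRing A)))))) :
    ∃ a : A, a ≠ 0 ∧ ∀ (k : Type u) [Field k] [Algebra A k], algebraMap A k a ≠ 0 →
      ¬ AlgebraicGeometry.IsReduced (pullback f (Spec.map (CommRingCat.ofHom (algebraMap A k)))) := by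
  obtain ⟨ι, _, B, _, _, hft, hiff⟩ := exists_charts f
  obtain ⟨i, hi⟩ : ∃ i, ¬ _root_.IsReduced (FractionRing A ⊗[A] B i) := not_forall.mp fun hall ↦ h ((hiff _).mpr hall)
  have := hft i
  obtain ⟨a, ha, hk⟩ := exists_forall_not_isReduced (B i) hi
  exact ⟨a, ha, fun k _ _ hka hred ↦ hk k hka ((hiff k).mp hred i)⟩

end Groth.Agent.GeomRedSpread
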